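import Groth.Agent.Synt29.RelFrobFlat
import Mathlib

/-! The relative Frobenius on an affine chart, as the ring-level relative Frobenius. -/

set_option autoImplicit false
set_option linter.style.haveILetI false
set_option maxHeartbeats 800000

open CategoryTheory CategoryTheory.Limits AlgebraicGeometry TensorProduct

namespace Groth.Agent.FrobTwistDeg

universe u

variable (p : ℕ) [Fact p.Prime]

theorem exists_relFrob_chart {X S : Scheme.{u}} [FrobSch.IsCharP S p] (f : X ⟶ S)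
    {U : X.Opens} (hU : IsAffineOpen U) {V : S.Opens} (hV : IsAffineOpen V) (hUV : U ≤ f ⁻¹ᵁ V)
    [Algebra Γ(S, V) Γ(X, U)] (halg : algebraMap Γ(S, V) Γ(X, U) = (f.appLE V U hUV).hom)
    [CharP Γ(S, V) p] [CharP Γ(X, U) p] :
    ∃ (hle : U ≤ FrobSch.relFrob f p ⁻¹ᵁ (pullback.fst f (FrobSch.frob S p) ⁻¹ᵁ U))
      (e : FrobAlg.BaseChange p Γ(S, V) Γ(X, U) ≃+* Γ(FrobSch.frobTwist f p, pullback.fst f (FrobSch.frob S p) ⁻¹ᵁ U)),
      ∀ z, ((FrobSch.relFrob f p).appLE (pullback.fst f (FrobSch.frob S p) ⁻¹ᵁ U) U hle).hom (e z) =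
        FrobAlg.relFrob p Γ(S, V) Γ(X, U) z := by
  haveI : FrobSch.IsCharP X p := FrobSch.IsCharP.of_hom f p
  haveI : IsAffineHom (FrobSch.frob S p) := ⟨fun W hW => hW⟩
  haveI : IsAffineHom (pullback.fst f (FrobSch.frob S p)) :=
    isAffineHom_isStableUnderBaseChange.of_isPullback (IsPullback.of_hasPullback f (FrobSch.frob S p)).flip inferInstance
  let pr1 := pullback.fst f (FrobSch.frob S p)
  let pr2 := pullback.snd f (FrobSch.frob S p)
  let F := FrobSch.relFrob f p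
  have h1 : F ≫ pr1 = FrobSch.frob X p := FrobSch.relFrob_fst f p
  have h2 : F ≫ pr2 = f := FrobSch.relFrob_snd f p
  have hle : U ≤ F ⁻¹ᵁ (pr1 ⁻¹ᵁ U) := by
    rw [← Scheme.Hom.comp_preimage, h1]; exact le_rfl
  have hWV : pr1 ⁻¹ᵁ U ≤ pr2 ⁻¹ᵁ V := by
    intro z hz
    have hz' : f (pr1 z) ∈ V := hUV hz
    rw [← Scheme.Hom.comp_apply, pullback.condition, Scheme.Hom.comp_apply] at hz'
    exact hz'
  have hpo := RingPO.isPushout_appLE_of_isPullback
    (IsPullback.of_hasPullback f (FrobSch.frob S p)) hV hU hUV hV (W := V) rfl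
    (hU.preimage pr1) rfl hWV
  have hfr : (FrobSch.frob S p).appLE V V le_rfl =
      CommRingCat.ofHom (algebraMap Γ(S, V) (FrobAlg.Twist p Γ(S, V))) := by
    ext a
    change (((FrobSch.frob S p).app V ≫ S.presheaf.map (𝟙 _)) a) = a ^ p
    rw [CategoryTheory.Functor.map_id, Category.comp_id]
    rfl
  have hT : IsPushout (CommRingCat.ofHom (algebraMap Γ(S, V) Γ(X, U))) ((FrobSch.frob S p).appLE V V le_rfl)
      (CommRingCat.ofHom (Algebra.TensorProduct.includeLeftRingHom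
        (R := Γ(S, V)) (A := Γ(X, U)) (B := FrobAlg.Twist p Γ(S, V))))
      (CommRingCat.ofHom (Algebra.TensorProduct.includeRight
        (R := Γ(S, V)) (A := Γ(X, U)) (B := FrobAlg.Twist p Γ(S, V))).toRingHom) := by
    rw [hfr]
    exact CommRingCat.isPushout_tensorProduct Γ(S, V) Γ(X, U) (FrobAlg.Twist p Γ(S, V))
  rw [show f.appLE V U hUV = CommRingCat.ofHom (algebraMap Γ(S, V) Γ(X, U)) from by rw [halg]; rfl] at hpo
  let e := hT.isoIsPushout _ _ hpo
  let φ := F.appLE (pr1 ⁻¹ᵁ U) U hle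
  have appLE_congr_hom : ∀ (g g' : X ⟶ X) (_ : g = g') (e₁ : U ≤ g ⁻¹ᵁ U) (e₂ : U ≤ g' ⁻¹ᵁ U),
      g.appLE U U e₁ = g'.appLE U U e₂ := by rintro g g' rfl e₁ e₂; rfl
  have appLE_congr_hom' : ∀ (g g' : X ⟶ S) (_ : g = g') (e₁ : U ≤ g ⁻¹ᵁ V) (e₂ : U ≤ g' ⁻¹ᵁ V),
      g.appLE V U e₁ = g'.appLE V U e₂ := by rintro g g' rfl e₁ e₂; rfl
  have ha : pr1.appLE U (pr1 ⁻¹ᵁ U) le_rfl ≫ φ = (FrobSch.frob X p).appLE U U le_rfl := by
    rw [Scheme.Hom.appLE_comp_appLE]
    exact appLE_congr_hom _ _ h1 _ _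
  have hb : pr2.appLE V (pr1 ⁻¹ᵁ U) hWV ≫ φ = f.appLE V U hUV := by
    rw [Scheme.Hom.appLE_comp_appLE]
    exact appLE_congr_hom' _ _ h2 _ _
  have key : (e.hom ≫ φ).hom = FrobAlg.relFrob p Γ(S, V) Γ(X, U) := by
    refine RingHom.ext fun z => ?_
    induction z using TensorProduct.induction_on with
    | zero => rw [map_zero, map_zero]
    | add a b iha ihb => rw [map_add, map_add, iha, ihb]
    | tmul b a =>
      have hl : (e.hom ≫ φ).hom (b ⊗ₜ[Γ(S, V)] (1 : FrobAlg.Twist p Γ(S, V))) = b ^ p := by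
        have hh := congrArg (· ≫ φ) (hT.inl_isoIsPushout_hom _ _ hpo)
        simp only [Category.assoc] at hh
        have := congr($(hh.trans ha).hom b)
        change _ = (((FrobSch.frob X p).app U ≫ X.presheaf.map (𝟙 _)) b) at this
        rw [CategoryTheory.Functor.map_id, Category.comp_id] at this
        exact this
      have hr : (e.hom ≫ φ).hom ((1 : Γ(X, U)) ⊗ₜ[Γ(S, V)] a) =
          algebraMap Γ(S, V) Γ(X, U) ((FrobAlg.toTwist p Γ(S, V)).symm a) := by
        have hh := congrArg (· ≫ φ) (hT.inr_isoIsPushout_hom _ _ hpo)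
        simp only [Category.assoc] at hh
        refine (congr($(hh.trans hb).hom a)).trans ?_
        exact (congr($halg ((FrobAlg.toTwist p Γ(S, V)).symm a))).symm
      conv_lhs => rw [show b ⊗ₜ[Γ(S, V)] a = (b ⊗ₜ[Γ(S, V)] (1 : FrobAlg.Twist p Γ(S, V))) *
        ((1 : Γ(X, U)) ⊗ₜ[Γ(S, V)] a) from by
          rw [Algebra.TensorProduct.tmul_mul_tmul, mul_one, one_mul],
        map_mul, hl, hr]
      rw [FrobSmoothLib.relFrob_tmul']
  exact ⟨hle, e.commRingCatIsoToRingEquiv, fun z => congr($key z)⟩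

end Groth.Agent.FrobTwistDeg
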